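import Cfsg.Agent.H94.HS.Group
import Cfsg.Agent.H94.M22.Combine
import Cfsg.Agent.H35.SpinCover

/-!
A stem extension of HS with kernel of order two, inside the double cover of the alternating
group of degree one hundred.
-/

set_option autoImplicit false

namespace Cfsg.Agent.H94.HS

open Cfsg Equiv Cfsg.Agent.H35
open scoped commutatorElement

section Quads

variable {n : ℕ}

/-- The two transpositions of a quadruple. -/
def quadPerm (q : Fin n × Fin n × Fin n × Fin n) : Perm (Fin n) :=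
  swap q.1 q.2.1 * swap q.2.2.1 q.2.2.2

/-- The four points of a quadruple. -/
def quadPts (q : Fin n × Fin n × Fin n × Fin n) : List (Fin n) := [q.1, q.2.1, q.2.2.1, q.2.2.2]

lemma exists_lift_quads : ∀ l : List (Fin n × Fin n × Fin n × Fin n),
    (l.flatMap quadPts).Nodup →
    ∃ p ∈ Spin.cover n, (p.1 : Perm (Fin n)) = (l.map quadPerm).prod ∧
      (p.2 : Module.End ℝ (Spin.Mod n)) * (p.2 : Module.End ℝ (Spin.Mod n))
        = (-1 : Module.End ℝ (Spin.Mod n)) ^ l.length ∧
      ∀ e f : Fin n, e ∉ l.flatMap quadPts → f ∉ l.flatMap quadPts →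
        (p.2 : Module.End ℝ (Spin.Mod n)) * Spin.x e f
          = Spin.x e f * (p.2 : Module.End ℝ (Spin.Mod n)) := by
  intro l
  induction l with
  | nil =>
    intro _
    exact ⟨1, one_mem _, by simp, by simp, fun e f _ _ => by simp⟩
  | cons q t ih =>
    intro hnd
    obtain ⟨a, b, c, d⟩ := q
    rw [List.flatMap_cons, List.nodup_append] at hnd
    obtain ⟨h4, ht, hdis⟩ := hnd
    simp only [quadPts, List.nodup_cons, List.mem_cons, List.not_mem_nil, or_false,
      List.nodup_nil, and_true, not_or] at h4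
    obtain ⟨⟨hab, hac, had⟩, ⟨hbc, hbd⟩, hcd, -⟩ := h4
    have hout : ∀ v ∈ quadPts (a, b, c, d), v ∉ t.flatMap quadPts := fun v hv hv' =>
      hdis v hv v hv' rfl
    obtain ⟨p, hp, hp1, hp2, hp3⟩ := ih ht
    obtain ⟨r, hr, hr1, hr2⟩ := Spin.pair_mem (n := n) hab hcd
    refine ⟨r * p, mul_mem hr hp, ?_, ?_, ?_⟩
    · rw [List.map_cons, List.prod_cons, ← hp1, quadPerm, ← hr1]
      rfl
    · have hcomm : (p.2 : Module.End ℝ (Spin.Mod n)) * (r.2 : Module.End ℝ (Spin.Mod n))
          = (r.2 : Module.End ℝ (Spin.Mod n)) * (p.2 : Module.End ℝ (Spin.Mod n)) := by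
        rw [hr2, ← mul_assoc, hp3 a b (hout a (by simp [quadPts])) (hout b (by simp [quadPts])),
          mul_assoc, hp3 c d (hout c (by simp [quadPts])) (hout d (by simp [quadPts])), mul_assoc]
      have hrr : (r.2 : Module.End ℝ (Spin.Mod n)) * (r.2 : Module.End ℝ (Spin.Mod n)) = -1 := by
        rw [hr2, mul_assoc, ← mul_assoc (Spin.x c d),
          Spin.x_anti (Ne.symm hac) (Ne.symm hbc) (Ne.symm had) (Ne.symm hbd),
          Spin.end_neg_mul, Spin.end_mul_neg, mul_assoc, Spin.x_sq hcd, mul_one, Spin.x_sq hab]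
      show ((r * p).2 : Module.End ℝ (Spin.Mod n)) * ((r * p).2 : Module.End ℝ (Spin.Mod n)) = _
      rw [Prod.snd_mul, Units.val_mul, List.length_cons, pow_succ', ← hp2, ← hrr]
      simp only [mul_assoc]
      rw [← mul_assoc (p.2 : Module.End ℝ (Spin.Mod n)) (r.2 : Module.End ℝ (Spin.Mod n)), hcomm,
        mul_assoc]
    · intro e f he hf
      simp only [List.flatMap_cons, List.mem_append, not_or, quadPts, List.mem_cons,
        List.not_mem_nil, or_false] at he hf
      obtain ⟨⟨hea, heb, hec, hed⟩, he'⟩ := he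
      obtain ⟨⟨hfa, hfb, hfc, hfd⟩, hf'⟩ := hf
      show ((r * p).2 : Module.End ℝ (Spin.Mod n)) * Spin.x e f = _
      have hc : Spin.x a b * Spin.x c d * Spin.x e f = Spin.x e f * (Spin.x a b * Spin.x c d) := by
        rw [mul_assoc, Spin.x_anti (Ne.symm hec) (Ne.symm hfc) (Ne.symm hed) (Ne.symm hfd),
          Spin.end_mul_neg, ← mul_assoc,
          Spin.x_anti (Ne.symm hea) (Ne.symm hfa) (Ne.symm heb) (Ne.symm hfb),
          Spin.end_neg_mul, Spin.end_neg_neg, mul_assoc]
      rw [Prod.snd_mul, Units.val_mul, hr2, mul_assoc, hp3 e f he' hf',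
        ← mul_assoc (Spin.x a b * Spin.x c d), hc, mul_assoc]

end Quads

/-- The cycles of the involution on the vertices. -/
def fpfQuadsF : List (Fin 100 × Fin 100 × Fin 100 × Fin 100) :=
  fpfQuads.map fun q => (Fin.ofNat 100 q.1, Fin.ofNat 100 q.2.1, Fin.ofNat 100 q.2.2.1,
    Fin.ofNat 100 q.2.2.2)

lemma fpfQuadsF_nodup : (fpfQuadsF.flatMap quadPts).Nodup := by decide +kernel

lemma fpfQuadsF_length : fpfQuadsF.length = 25 := by decide +kernel

lemma fpfQuadsF_prod :
    ∀ v : Fin 100, ((fpfQuadsF.map quadPerm).prod v : ℕ) = app100 fpfT v := by decide +kernel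

lemma fpfT_sq : mul100 fpfT fpfT = one100 := by decide +kernel

lemma fpfT_mem : memB fpfT = true := by decide +kernel

theorem commutator_hsE : commutator ↥hsE = ⊤ := by
  obtain ⟨e⟩ := isoHS_hsE
  let e' : ↥hsE ≃* ↥Cfsg.Agent.Golay.hsStab := e.trans
    ((Cfsg.Agent.Golay.hsStab.equivMapOfInjective Co0.subtype Subtype.val_injective).trans
      (MulEquiv.subgroupCongr Cfsg.Agent.Golay.map_hsStab)).symm
  haveI := Cfsg.Agent.Golay.isSimple_hsStab
  haveI : Nontrivial ↥hsE := e'.toEquiv.nontrivial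
  haveI : IsSimpleGroup ↥hsE :=
    IsSimpleGroup.isSimpleGroup_of_surjective e'.symm.toMonoidHom e'.symm.surjective
  refine M22.commutator_eq_top_of_simple ?_
  by_contra h
  push Not at h
  letI : CommGroup ↥hsE := { (inferInstance : Group ↥hsE) with mul_comm := h }
  have hp := (IsSimpleGroup.prime_card : (Nat.card ↥hsE).Prime)
  rw [card_hsE] at hp
  norm_num at hp

attribute [local irreducible] perm100 fpfT mul100 one100 memB fpfQuadsF

theorem exists_stem_two :
    ∃ (Δ : Type) (_ : Group Δ) (_ : Finite Δ) (σ : Δ →* ↥hsE),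
      IsStemExtension σ ∧ Nonempty (σ.ker ≃* Multiplicative (ZMod 2)) := by
  classical
  haveI := Spin.finite_cover (n := 100)
  let ρ : ↥(Spin.cover 100) →* Perm (Fin 100) :=
    (alternatingGroup (Fin 100)).subtype.comp (Spin.proj 100)
  let π : ↥(hsE.comap ρ) →* ↥hsE := (ρ.comp (hsE.comap ρ).subtype).codRestrict hsE fun x => x.2
  have hπs : Function.Surjective π := fun g => by
    obtain ⟨c, hc⟩ := Spin.proj_surjective (n := 100) ⟨g.1, g.2.2⟩
    have hc' : ρ c = g.1 := congrArg Subtype.val hc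
    refine ⟨⟨c, ?_⟩, Subtype.ext hc'⟩
    show ρ c ∈ hsE
    rw [hc']
    exact g.2
  let z0 : ↥(Spin.cover 100) := ⟨(1, -1), Spin.neg_one_mem⟩
  let z : ↥(hsE.comap ρ) := ⟨z0, by show ρ z0 ∈ hsE; exact one_mem hsE⟩
  have hker : ∀ w : ↥(hsE.comap ρ), π w = 1 → w = 1 ∨ w = z := by
    intro w hw
    have h1 : ((w : ↥(Spin.cover 100)) :
        alternatingGroup (Fin 100) × (Module.End ℝ (Spin.Mod 100))ˣ).1 = 1 := by
      have h0 : ρ w.1 = 1 := congrArg Subtype.val hw
      exact Subtype.ext h0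
    rcases Spin.eq_one_or_neg_one (w : ↥(Spin.cover 100)).2 h1 with h | h
    · exact Or.inl (Subtype.ext (Subtype.ext (Prod.ext h1 h)))
    · exact Or.inr (Subtype.ext (Subtype.ext (Prod.ext h1 h)))
  have hzcen : z ∈ Subgroup.center ↥(hsE.comap ρ) := Subgroup.mem_center_iff.2 fun g =>
    Subtype.ext (Subtype.ext (Prod.ext (by simp [z, z0]) (Units.ext (by simp [z, z0]))))
  have hcen : π.ker ≤ Subgroup.center ↥(hsE.comap ρ) := fun w hw => by
    rcases hker w hw with rfl | rfl
    · exact one_mem _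
    · exact hzcen
  obtain ⟨p, hp, hp1, hp2, -⟩ := exists_lift_quads fpfQuadsF fpfQuadsF_nodup
  obtain ⟨hok, hmem⟩ := memB_mem fpfT_mem
  have hperm : (p.1 : Perm (Fin 100)) = perm100 fpfT := by
    rw [hp1]
    exact Equiv.ext fun v => Fin.ext ((fpfQuadsF_prod v).trans (perm100_val hok v).symm)
  let P : ↥(hsE.comap ρ) := ⟨⟨p, hp⟩, by show (p.1 : Perm (Fin 100)) ∈ hsE; rw [hperm]; exact hmem⟩
  have hPP : P * P = z := by
    refine Subtype.ext (Subtype.ext (Prod.ext (Subtype.ext ?_) (Units.ext ?_)))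
    · show (p.1 : Perm (Fin 100)) * (p.1 : Perm (Fin 100)) = 1
      rw [hperm, ← (mul100_spec hok hok).2, fpfT_sq, one100_spec.2]
    · show (p.2 : Module.End ℝ (Spin.Mod 100)) * (p.2 : Module.End ℝ (Spin.Mod 100)) = _
      rw [hp2, fpfQuadsF_length]
      exact (Odd.neg_one_pow (α := Module.End ℝ (Spin.Mod 100)) (show Odd 25 by decide)).trans rfl
  obtain ⟨d, hd, hd'⟩ := M22.exists_mem_commutator_map π hπs commutator_hsE (π P)
  have hzΔ : z ∈ commutator ↥(hsE.comap ρ) := by
    have hk : π (P * d⁻¹) = 1 := by rw [map_mul, map_inv, hd', mul_inv_cancel]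
    have hdd : d * d = z := by
      rcases hker _ hk with h | h
      · rw [← mul_inv_eq_one.1 h, hPP]
      · have hPd : P = z * d := by rw [← h, inv_mul_cancel_right]
        have hcd : d * z = z * d := Subgroup.mem_center_iff.1 hzcen d
        have hz2 : z * z = 1 :=
          Subtype.ext (Subtype.ext (Prod.ext (by simp [z, z0]) (Units.ext (by simp [z, z0]))))
        calc d * d = z * z * (d * d) := by rw [hz2, one_mul]
          _ = z * d * (z * d) := by rw [mul_assoc z d, ← mul_assoc d z, hcd]; group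
          _ = z := by rw [← hPd, hPP]
    exact hdd ▸ mul_mem hd hd
  let σ : ↥(commutator ↥(hsE.comap ρ)) →* ↥hsE := π.comp (commutator ↥(hsE.comap ρ)).subtype
  have hσs : Function.Surjective σ := fun g => by
    obtain ⟨d, hd, hd'⟩ := M22.exists_mem_commutator_map π hπs commutator_hsE g
    exact ⟨⟨d, hd⟩, hd'⟩
  refine ⟨↥(commutator ↥(hsE.comap ρ)), inferInstance, inferInstance, σ,
    ⟨hσs, fun w hw => ?_, ?_⟩, ?_⟩
  · rw [Subgroup.mem_center_iff]
    exact fun y => Subtype.ext (Subgroup.mem_center_iff.1 (hcen (MonoidHom.mem_ker.2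
      (MonoidHom.mem_ker.1 hw))) _)
  · rw [M22.commutator_self_of_perfect_quot π hπs hcen commutator_hsE]
    exact le_top
  let zΔ : σ.ker := ⟨⟨z, hzΔ⟩, Subtype.ext (show ρ z0 = 1 from rfl)⟩
  have hz1 : zΔ ≠ 1 := fun h => Spin.neg_one_ne_one_unit (n := 100)
    (congrArg (fun w : σ.ker => ((((w : ↥(commutator ↥(hsE.comap ρ))) :
      ↥(hsE.comap ρ)) : ↥(Spin.cover 100)) :
      alternatingGroup (Fin 100) × (Module.End ℝ (Spin.Mod 100))ˣ).2) h)
  have hgen : ∀ w : σ.ker, w = 1 ∨ w = zΔ := fun w => by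
    rcases hker _ (MonoidHom.mem_ker.1 w.2) with h | h
    · exact Or.inl (Subtype.ext (Subtype.ext h))
    · exact Or.inr (Subtype.ext (Subtype.ext h))
  have h2 : Nat.card σ.ker = 2 := by
    rw [Nat.card_eq_two_iff]
    exact ⟨1, zΔ, hz1.symm, Set.eq_univ_iff_forall.2 fun w => by simpa using hgen w⟩
  haveI : Fact (Nat.Prime 2) := ⟨Nat.prime_two⟩
  haveI := isCyclic_of_prime_card h2
  exact ⟨mulEquivOfCyclicCardEq (by rw [h2, Nat.card_congr Multiplicative.toAdd, Nat.card_zmod])⟩

end Cfsg.Agent.H94.HS
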