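import Cfsg.Agent.H94.HS.Upper
import Cfsg.Agent.H94.HS.Lower

/-!
The Schur multiplier of HS is cyclic of order two.
-/

set_option autoImplicit false

namespace Cfsg.Agent.H94.HS

open Cfsg

lemma isStem_comp_equiv {Γ G H : Type} [Group Γ] [Group G] [Group H] (e : G ≃* H) {σ : Γ →* G}
    (hσ : IsStemExtension σ) :
    IsStemExtension (e.toMonoidHom.comp σ) ∧ (e.toMonoidHom.comp σ).ker = σ.ker := by
  have hk : (e.toMonoidHom.comp σ).ker = σ.ker := MonoidHom.ker_mulEquiv_comp σ e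
  exact ⟨⟨e.surjective.comp hσ.1, hk ▸ hσ.2.1, hk ▸ hσ.2.2⟩, hk⟩

lemma hasSchurMultiplier_of_equiv {G H : Type} [Group G] [Group H] {A : Type} [CommGroup A]
    (e : G ≃* H) (h : HasSchurMultiplier G A) : HasSchurMultiplier H A := by
  obtain ⟨⟨Γ, i1, i2, σ, hσ, ⟨f⟩⟩, h2⟩ := h
  refine ⟨⟨Γ, i1, i2, e.toMonoidHom.comp σ, (isStem_comp_equiv e hσ).1,
    ⟨(MulEquiv.subgroupCongr (isStem_comp_equiv e hσ).2).trans f⟩⟩, fun Δ _ _ τ hτ => ?_⟩
  obtain ⟨hs, hk⟩ := isStem_comp_equiv e.symm hτ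
  obtain ⟨g, hg⟩ := h2 Δ _ hs
  exact ⟨(MulEquiv.subgroupCongr hk).toMonoidHom.comp g,
    (MulEquiv.subgroupCongr hk).surjective.comp hg⟩

theorem hasCyclicSchurMultiplier_HS : HasCyclicSchurMultiplier ↥Spor.HS 2 := by
  obtain ⟨e⟩ := isoHS_hsE
  exact hasSchurMultiplier_of_equiv e ⟨exists_stem_two, fun Γ _ _ σ hσ => exists_surjective_two σ hσ⟩

end Cfsg.Agent.H94.HS
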