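import Cfsg.Agent.H94.HS.Graph

/-!
Kernel checks of the orbits of the point stabiliser.
-/

set_option autoImplicit false

namespace Cfsg.Agent.H94.HS

/-- Witnesses of an orbit of the stabiliser of the first vertex. -/
def checkOrbit (l : List ℕ) (x : ℕ) (adj : Bool) : Bool :=
  l.all (fun T => memB T && app100 T 0 == 0) &&
    l.map (fun T => app100 T x) ==
      (List.range 100).filter (fun v => decide (0 < v) && (adjB 0 v == adj))

theorem checkNear_ok : checkOrbit nearT 1 true = true := by decide +kernel

theorem checkFar_ok : checkOrbit farT 23 false = true := by decide +kernel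

end Cfsg.Agent.H94.HS
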