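import Cfsg.Agent.H94.HS.Graph

/-!
Kernel checks of transitivity.
-/

set_option autoImplicit false

namespace Cfsg.Agent.H94.HS

/-- The first vertex is sent everywhere. -/
def checkTrans : Bool :=
  transT.all memB && transT.map (fun T => app100 T 0) == List.range 100

theorem checkTrans_ok : checkTrans = true := by decide +kernel

end Cfsg.Agent.H94.HS
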