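import Cfsg.Agent.H94.HS.ChkGraph
import Cfsg.Agent.H94.HS.ChkTrans
import Cfsg.Agent.H94.HS.ChkOrbit
import Cfsg.Agent.Golay.HundredGraph

/-!
The even automorphisms of the graph form the Higman–Sims group.
-/

set_option autoImplicit false

namespace Cfsg.Agent.H94.HS

open Cfsg Equiv

attribute [local irreducible] oddT transT nearT farT graphBits adjB perm100 app100

lemma memB_mem {T : ℕ} (h : memB T = true) : ok100 T = true ∧ perm100 T ∈ hsE :=
  memB_spec checkEdges_ok checkPairs_ok h

theorem card_autG : Nat.card autG = 88704000 := by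
  classical
  rw [Nat.card_congr (autEquiv checkNbrs_ok checkPairs_ok)]
  exact Cfsg.Agent.Golay.card_srg_aut (hsGraph_srg checkNbrs_ok checkPairs_ok)

theorem card_hsE : Nat.card hsE = 44352000 := by
  let f : autG →* ℤˣ := Perm.sign.comp autG.subtype
  have ho := checkOdd_ok
  simp only [checkOdd, Bool.and_eq_true] at ho
  have hsurj : Function.Surjective f := by
    intro u
    rcases Int.units_eq_one_or u with rfl | rfl
    · exact ⟨1, map_one f⟩
    · refine ⟨⟨perm100 oddT, perm100_mem_autG checkEdges_ok checkPairs_ok ho.1.1 ho.1.2⟩, ?_⟩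
      show Perm.sign (perm100 oddT) = -1
      rw [sign_perm100 ho.1.1, ho.2]
      rfl
  have h1 := f.ker.card_mul_index
  rw [Subgroup.index_ker, MonoidHom.range_eq_top.2 hsurj, Subgroup.card_top, card_autG,
    Nat.card_eq_fintype_card (α := ℤˣ), Fintype.card_units_int] at h1
  have e : f.ker ≃ hsE :=
    { toFun := fun x => ⟨x.1.1, x.1.2, x.2⟩
      invFun := fun x => ⟨⟨x.1, x.2.1⟩, x.2.2⟩
      left_inv := fun _ => rfl
      right_inv := fun _ => rfl }
  rw [← Nat.card_congr e]
  omega

lemma exists_smul_zero (v : Fin 100) : ∃ g : hsE, g • (0 : Fin 100) = v := by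
  have h := checkTrans_ok
  simp only [checkTrans, Bool.and_eq_true, List.all_eq_true, beq_iff_eq] at h
  have hv : (v : ℕ) ∈ transT.map (fun T => app100 T 0) := by
    rw [h.2]; exact List.mem_range.2 v.2
  obtain ⟨T, hT, hTv⟩ := List.mem_map.1 hv
  obtain ⟨hok, hm⟩ := memB_mem (h.1 T hT)
  exact ⟨⟨perm100 T, hm⟩, Fin.ext ((perm100_val hok 0).trans hTv)⟩

instance : MulAction.IsPretransitive hsE (Fin 100) where
  exists_smul_eq a b := by
    obtain ⟨g, hg⟩ := exists_smul_zero a
    obtain ⟨k, hk⟩ := exists_smul_zero b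
    exact ⟨k * g⁻¹, by rw [mul_smul, ← hg, inv_smul_smul, hk]⟩

theorem card_stab : Nat.card (MulAction.stabilizer hsE (0 : Fin 100)) = 443520 := by
  have h := (MulAction.stabilizer hsE (0 : Fin 100)).card_mul_index
  rw [MulAction.index_stabilizer_of_transitive, card_hsE, Nat.card_eq_fintype_card (α := Fin 100),
    Fintype.card_fin] at h
  omega

lemma orbit_ncard {l : List ℕ} {x : Fin 100} {adj : Bool} (h : checkOrbit l x adj = true)
    (hx : (decide (0 < (x : ℕ)) && (adjB 0 x == adj)) = true) {k : ℕ}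
    (hk : ((List.range 100).filter fun v => decide (0 < v) && (adjB 0 v == adj)).length = k) :
    (MulAction.orbit (MulAction.stabilizer hsE (0 : Fin 100)) x).ncard = k := by
  classical
  simp only [checkOrbit, Bool.and_eq_true, List.all_eq_true, beq_iff_eq] at h
  rw [← hk, ← card_filter_fin, ← Set.ncard_coe_finset]
  refine congrArg Set.ncard (Set.ext fun v => ?_)
  simp only [Finset.coe_filter, Finset.mem_univ, true_and, Set.mem_ofPred_eq]
  constructor
  · rintro ⟨g, rfl⟩
    have h0 : (g.1.1 : Perm (Fin 100)) 0 = 0 := g.2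
    have hadj := g.1.2.1 0 x
    rw [h0] at hadj
    simp only [Fin.val_zero] at hadj
    simp only [Bool.and_eq_true, decide_eq_true_eq, beq_iff_eq] at hx ⊢
    refine ⟨?_, ?_⟩
    · refine Nat.pos_of_ne_zero fun he => ?_
      have : (g.1.1 : Perm (Fin 100)) x = g.1.1 0 := by rw [h0]; exact Fin.ext he
      have := congrArg Fin.val ((g.1.1 : Perm (Fin 100)).injective this)
      simp only [Fin.val_zero] at this
      omega
    · show adjB 0 ((g.1.1 : Perm (Fin 100)) x : ℕ) = adj
      rw [← hadj]; exact hx.2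
  · intro hv
    have hm : (v : ℕ) ∈ l.map fun T => app100 T x := by
      rw [h.2]; exact List.mem_filter.2 ⟨List.mem_range.2 v.2, hv⟩
    obtain ⟨T, hT, hTv⟩ := List.mem_map.1 hm
    obtain ⟨hmem, hT0⟩ := h.1 T hT
    obtain ⟨hok, hE⟩ := memB_mem hmem
    exact ⟨⟨⟨perm100 T, hE⟩, Fin.ext ((perm100_val hok 0).trans hT0)⟩,
      Fin.ext ((perm100_val hok x).trans hTv)⟩

theorem isoHS_hsE : Spor.IsoHS ↥hsE :=
  Cfsg.Agent.Golay.isoHS_of_rankThree (Fintype.card_fin 100) (a := (0 : Fin 100))
    (b := (1 : Fin 100)) (c := (23 : Fin 100)) card_stab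
    (orbit_ncard checkNear_ok (by decide +kernel) (by decide +kernel))
    (orbit_ncard checkFar_ok (by decide +kernel) (by decide +kernel))

end Cfsg.Agent.H94.HS
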