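import Cfsg.Agent.H94.HS.UpperData

/-!
The normal forms of the certificate are closed.
-/

set_option autoImplicit false

namespace Cfsg.Agent.H94.HS

theorem upperHS_ClosedA : upperHS.checkClosed 0 256 = true := by decide +kernel

end Cfsg.Agent.H94.HS
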