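import Cfsg.Agent.H94.HS.Graph

/-!
Kernel checks on the graph and the witnesses of its automorphism group.
-/

set_option autoImplicit false

namespace Cfsg.Agent.H94.HS

theorem checkEdges_ok : checkEdges = true := by decide +kernel

theorem checkNbrs_ok : checkNbrs = true := by decide +kernel

theorem checkPairs_ok : checkPairs = true := by decide +kernel

/-- The odd automorphism. -/
def checkOdd : Bool := ok100 oddT && graphB oddT && oddB oddT

theorem checkOdd_ok : checkOdd = true := by decide +kernel

/-- The fixed point free involution and its cycles. -/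
def checkFpf : Bool :=
  memB fpfT && (fpfQuads.length == 25) &&
    fpfQuads.all (fun q => app100 fpfT q.1 == q.2.1 && app100 fpfT q.2.1 == q.1 &&
      app100 fpfT q.2.2.1 == q.2.2.2 && app100 fpfT q.2.2.2 == q.2.2.1) &&
    decide ((fpfQuads.flatMap fun q => [q.1, q.2.1, q.2.2.1, q.2.2.2]).Nodup) &&
    (fpfQuads.flatMap fun q => [q.1, q.2.1, q.2.2.1, q.2.2.2]).all (fun v => decide (v < 100))

theorem checkFpf_ok : checkFpf = true := by decide +kernel

end Cfsg.Agent.H94.HS
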