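import Cfsg.Agent.H94.HS.Parity
import Cfsg.Agent.H94.HS.GraphData
import Cfsg.Agent.H94.HS.Cert

/-!
The Higman–Sims graph, its automorphisms and their even subgroup, with decidable tests.
-/

set_option autoImplicit false

namespace Cfsg.Agent.H94.HS

open Equiv Finset

/-- Adjacency. -/
def adjB (a b : ℕ) : Bool := graphBits.testBit (100 * a + b)

/-- The list of edges is complete. -/
def checkEdges : Bool :=
  (edges.all fun e => decide (e < 10000)) &&
  edges.foldl (fun acc e => acc ||| 1 <<< e ||| 1 <<< (100 * (e % 100) + e / 100)) 0 == graphBits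

/-- The table maps edges to edges. -/
def graphB (T : ℕ) : Bool := edges.all fun e => adjB (app100 T (e / 100)) (app100 T (e % 100))

/-- The lists of neighbours are correct and there are twenty-two neighbours each. -/
def checkNbrs : Bool :=
  (List.range 100).all fun a => ((List.range 100).filter (adjB a)) == nbrs.getD a [] &&
    (nbrs.getD a []).length == 22 && !adjB a a

/-- The graph is symmetric with the right numbers of common neighbours. -/
def checkPairs : Bool :=
  (List.range 100).all fun a =>
    let l := nbrs.getD a []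
    (List.range a).all fun b => adjB a b == adjB b a &&
      (l.filter (adjB b)).length == if adjB a b then 0 else 6

/-- Membership in the even automorphism group. -/
def memB (T : ℕ) : Bool := ok100 T && graphB T && !oddB T

/-- The operations. -/
def hsOps : TOps where
  one := one100
  mul := mul100
  mem := memB

/-- The automorphisms as permutations. -/
def autG : Subgroup (Perm (Fin 100)) where
  carrier := {σ | ∀ a b : Fin 100, adjB a b = adjB (σ a : ℕ) (σ b : ℕ)}
  one_mem' _ _ := rfl
  mul_mem' {σ τ} hσ hτ a b := (hτ a b).trans (hσ (τ a) (τ b))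
  inv_mem' {σ} hσ a b := by
    have h := hσ (σ⁻¹ a) (σ⁻¹ b)
    simp only [Perm.inv_def, Equiv.apply_symm_apply] at h ⊢
    exact h.symm

/-- The even automorphisms. -/
def hsE : Subgroup (Perm (Fin 100)) := autG ⊓ Perm.sign.ker

lemma mem_edges_of_adjB (h : checkEdges = true) {k : ℕ} (hk : graphBits.testBit k = true) :
    ∃ e ∈ edges, e < 10000 ∧ (k = e ∨ k = 100 * (e % 100) + e / 100) := by
  have key : ∀ (l : List ℕ) (acc : ℕ),
      (l.foldl (fun acc e => acc ||| 1 <<< e ||| 1 <<< (100 * (e % 100) + e / 100)) acc).testBit k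
        = true → acc.testBit k = true ∨ ∃ e ∈ l, k = e ∨ k = 100 * (e % 100) + e / 100 := by
    intro l
    induction l with
    | nil => exact fun acc ha => Or.inl ha
    | cons a t ih =>
      intro acc ha
      rcases ih _ ha with ha | ⟨e, he, h⟩
      · rw [Nat.testBit_or, Nat.testBit_or, Bool.or_eq_true, Bool.or_eq_true, Nat.one_shiftLeft,
          Nat.one_shiftLeft, Nat.testBit_two_pow, Nat.testBit_two_pow, decide_eq_true_eq,
          decide_eq_true_eq] at ha
        rcases ha with (ha | ha) | ha
        · exact Or.inl ha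
        · exact Or.inr ⟨a, List.mem_cons_self, Or.inl ha.symm⟩
        · exact Or.inr ⟨a, List.mem_cons_self, Or.inr ha.symm⟩
      · exact Or.inr ⟨e, List.mem_cons_of_mem _ he, h⟩
  simp only [checkEdges, Bool.and_eq_true, beq_iff_eq, List.all_eq_true, decide_eq_true_eq] at h
  rcases key edges 0 (by rw [h.2]; exact hk) with h' | ⟨e, he, h'⟩
  · simp at h'
  · exact ⟨e, he, h.1 e he, h'⟩

lemma adjB_symm (h : checkPairs = true) (a b : Fin 100) : adjB a b = adjB b a := by
  simp only [checkPairs, List.all_eq_true, List.mem_range, Bool.and_eq_true, beq_iff_eq] at h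
  rcases lt_trichotomy (a : ℕ) b with hl | hl | hl
  · exact (h b b.2 a hl).1.symm
  · rw [hl]
  · exact (h a a.2 b hl).1

lemma perm100_mem_autG (he : checkEdges = true) (hp : checkPairs = true) {T : ℕ}
    (hok : ok100 T = true) (hg : graphB T = true) : perm100 T ∈ autG := by
  have fwd : ∀ a b : Fin 100, adjB a b = true →
      adjB (perm100 T a : ℕ) (perm100 T b : ℕ) = true := by
    intro a b hab
    obtain ⟨e, hm, hlt, hk⟩ := mem_edges_of_adjB he hab
    have := List.all_eq_true.1 hg e hm
    rcases hk with hk | hk
    · rw [perm100_val hok, perm100_val hok]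
      rwa [show e / 100 = a by omega, show e % 100 = b by omega] at this
    · rw [adjB_symm hp, perm100_val hok, perm100_val hok]
      have hb : e % 100 < 100 := Nat.mod_lt _ (by norm_num)
      have he1 : e / 100 = b := by omega
      rwa [he1, show e % 100 = a by omega] at this
  intro a b
  let S : Set (Fin 100 × Fin 100) := {p | adjB p.1 p.2 = true}
  let f := Prod.map (perm100 T) (perm100 T)
  have hf : Function.Injective f := (perm100 T).injective.prodMap (perm100 T).injective
  have hS : f '' S = S := Set.eq_of_subset_of_ncard_le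
    (by rintro _ ⟨q, hq, rfl⟩; exact fwd q.1 q.2 hq)
    (Set.ncard_image_of_injective S hf).ge (Set.toFinite _)
  refine Bool.eq_iff_iff.2 ?_
  show (a, b) ∈ S ↔ f (a, b) ∈ S
  conv_rhs => rw [← hS]
  exact hf.mem_set_image.symm

lemma memB_spec (he : checkEdges = true) (hp : checkPairs = true) {T : ℕ} (h : memB T = true) :
    ok100 T = true ∧ perm100 T ∈ hsE := by
  simp only [memB, Bool.and_eq_true, Bool.not_eq_true'] at h
  exact ⟨h.1.1, perm100_mem_autG he hp h.1.1 h.1.2,
    MonoidHom.mem_ker.2 (even_of_oddB h.1.1 h.2)⟩

/-- Tables as elements of the even automorphism group. -/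
noncomputable def hsModel (he : checkEdges = true) (hp : checkPairs = true) :
    TModel hsOps (Perm (Fin 100)) hsE where
  ok T := ok100 T = true
  val := perm100
  ok_one := one100_spec.1
  val_one := one100_spec.2
  ok_mul _ _ ha hb := (mul100_spec ha hb).1
  val_mul _ _ ha hb := (mul100_spec ha hb).2
  inj _ _ := perm100_inj
  ok_mem _ h := (memB_spec he hp h).1
  mem_K _ h := (memB_spec he hp h).2

/-- The graph. -/
def hsGraph (hn : checkNbrs = true) (hp : checkPairs = true) : SimpleGraph (Fin 100) where
  Adj a b := adjB a b = true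
  symm := ⟨fun a b h => by rw [adjB_symm hp]; exact h⟩
  loopless := ⟨fun a h => by
    simp only [checkNbrs, List.all_eq_true, List.mem_range, Bool.and_eq_true,
      Bool.not_eq_true'] at hn
    rw [(hn a a.2).2] at h
    exact Bool.false_ne_true h⟩

lemma card_filter_fin (n : ℕ) (p : ℕ → Bool) :
    ((univ : Finset (Fin n)).filter fun x : Fin n => p x = true).card
      = ((List.range n).filter p).length := by
  rw [← List.toFinset_card_of_nodup (List.nodup_range.filter p),
    ← Finset.card_map Fin.valEmbedding]
  refine congrArg Finset.card (Finset.ext fun k => ?_)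
  simp only [mem_map, mem_filter, mem_univ, true_and, Fin.valEmbedding_apply, List.mem_toFinset,
    List.mem_filter, List.mem_range]
  exact ⟨fun ⟨x, hx, e⟩ => e ▸ ⟨x.2, hx⟩, fun ⟨hk, hx⟩ => ⟨⟨k, hk⟩, hx, rfl⟩⟩

theorem hsGraph_srg (hn : checkNbrs = true) (hp : checkPairs = true)
    [DecidableRel (hsGraph hn hp).Adj] : (hsGraph hn hp).IsSRGWith 100 22 0 6 := by
  classical
  have hn' := hn
  simp only [checkNbrs, List.all_eq_true, List.mem_range, Bool.and_eq_true, beq_iff_eq] at hn'
  have hp' := hp
  simp only [checkPairs, List.all_eq_true, List.mem_range, Bool.and_eq_true, beq_iff_eq] at hp'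
  have common : ∀ a b : Fin 100, (b : ℕ) < a →
      Fintype.card ((hsGraph hn hp).commonNeighbors a b) = if adjB a b then 0 else 6 := by
    intro a b hl
    rw [← (hp' a a.2 b hl).2, ← Set.toFinset_card, ← (hn' a a.2).1.1, List.filter_filter,
      ← card_filter_fin]
    refine congrArg Finset.card (Finset.ext fun x => ?_)
    simp only [Set.mem_toFinset, SimpleGraph.mem_commonNeighbors, mem_filter, mem_univ, true_and,
      Bool.and_eq_true]
    exact and_comm
  have common' : ∀ a b : Fin 100, a ≠ b →
      Fintype.card ((hsGraph hn hp).commonNeighbors a b) = if adjB a b then 0 else 6 := by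
    intro a b hne
    rcases Nat.lt_or_gt_of_ne (Fin.val_ne_of_ne hne) with hl | hl
    · have := common b a hl
      rw [adjB_symm hp] at this
      rw [← this]
      exact Fintype.card_congr (Equiv.setCongr (SimpleGraph.commonNeighbors_symm _ _ _))
    · exact common a b hl
  refine ⟨by simp, fun a => ?_, fun a b hab => ?_, fun a b hne hab => ?_⟩
  · rw [← SimpleGraph.card_neighborFinset_eq_degree, ← (hn' a a.2).1.2, ← (hn' a a.2).1.1,
      ← card_filter_fin]
    refine congrArg Finset.card (Finset.ext fun x => ?_)
    simp only [SimpleGraph.mem_neighborFinset, mem_filter, mem_univ, true_and]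
    exact Iff.rfl
  · rw [common' a b hab.ne, if_pos (show adjB a b = true from hab)]
  · rw [common' a b hne, if_neg (show ¬adjB a b = true from hab)]

/-- The automorphisms of the graph are the subgroup. -/
def autEquiv (hn : checkNbrs = true) (hp : checkPairs = true) :
    autG ≃ (hsGraph hn hp ≃g hsGraph hn hp) where
  toFun σ := ⟨σ.1, fun {a b} => by
    show adjB (σ.1 a : ℕ) (σ.1 b : ℕ) = true ↔ adjB a b = true
    rw [σ.2 a b]⟩
  invFun f := ⟨f.toEquiv, fun a b => Bool.eq_iff_iff.2 f.map_rel_iff.symm⟩
  left_inv _ := rfl
  right_inv _ := rfl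

end Cfsg.Agent.H94.HS
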