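import Cfsg.Agent.H94.HS.UpperData
import Cfsg.Agent.H94.HS.Graph

/-!
Evaluation of the certificate for the 2-part of the multiplier of HS.
-/

set_option autoImplicit false
set_option Elab.async false

namespace Cfsg.Agent.H94.HS

theorem upperHS_Tables : upperHS.checkTables hsOps = true := by decide +kernel

theorem upperHS_Forms : upperHS.checkForms = true := by decide +kernel

end Cfsg.Agent.H94.HS
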