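import Mathlib.Data.Nat.Notation

/-!
Witness elements for the odd primes dividing the order of HS.
-/

set_option autoImplicit false

namespace Cfsg.Agent.H94.HS

/-- A witness. -/
def x3T : ℕ := 0xaeb61363abd1239b7a53138a303aa719b9ea4ba19f70b27584f3da19b6920a5befb132a8ee2294156e218eaa430b525ed956f259b6740d616a5e2d13099fe3ad01cccba40611261c5021238208245019516182811e58680

/-- A witness. -/
def y3T : ℕ := 0x9f62fd7b77a854c36b159a5731d6a782ed1aaba1344eb672c32d92b8487609f86c242a36a25b34471d9a88f252b5f258bd7cca3a37280c3f747a01742de6c66b314c54c58607260c590281408812488951e3830d1408200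

/-- A witness. -/
def g3T : ℕ := 0x2f5a2b798230038031aba4c44f0727771c6a2a8fc2c4ede236341fac429405b34bea0e283e4589e889435a1545a2acae1bbc1ac8b9473098155d2553ad9a20137decda4b823982e25c9520958d889e3816640b3e3339853

/-- A witness. -/
def x5T : ℕ := 0xb928637258e959a6fe6c05e1debc0c290a01f82f51a11264b56051be542110216030dfb55aad8af3edd4bb263479d22143831588d2ea4a0e58c192e5ae01bb2024f9a4a9d2162ad09985045b393810d993a15ab37479362

/-- A witness. -/
def y5T : ℕ := 0x1671fa88b858c8a76a511c052c85303d5504d1a69a772c3391aa51c46a4db964179e89aa3b103457594c1526901098dd51606d7c7acacb87a8cc93e3c0a05c208443c2ae2c193ed12ac6c92bae0106da75b0efce3b0a78c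

/-- A witness. -/
def z5T : ℕ := 0x122f3054f97e264f652d5762cac9339e5a628a254772da1c9eccdd0349d442c2826c3aae2e1f8ea50a3ae48236822cb181e245012b4871d2036fbf2864139b615286484c391ad15d538c0d3631981a9781328b73c22eae

/-- A witness. -/
def g5T : ℕ := 0x34d2d911648ad33819acf3add53db2b6f2c064cc50137e5904a09cccc3053dd8a6ea2043491a23c506552f70cb8810c244118dd07035aba995600324caf049c4fa35a611d7ce63206bb483cb3c0a7d70a5135f8e66da151

end Cfsg.Agent.H94.HS
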