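import Cfsg.Agent.H94.HS.Graph
import Cfsg.Agent.H94.HS.WitData

/-!
Kernel checks of the witnesses for the primes three and five.
-/

set_option autoImplicit false

namespace Cfsg.Agent.H94.HS

/-- The elementary group of order nine. -/
def tab9 : List ℕ :=
  (List.range 3).flatMap fun i => (List.range 3).map fun j =>
    mul100 (pow100 i x3T) (pow100 j y3T)

/-- The extraspecial group of order 125. -/
def tab125 : List ℕ :=
  (List.range 5).flatMap fun i => (List.range 5).flatMap fun j => (List.range 5).map fun k =>
    mul100 (mul100 (pow100 i x5T) (pow100 j y5T)) (pow100 k z5T)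

/-- Relations for the prime three. -/
def checkThree : Bool :=
  memB x3T && memB y3T && memB g3T &&
  (mul100 x3T y3T == mul100 y3T x3T) && (pow100 3 x3T == one100) && (pow100 3 y3T == one100) &&
  (mul100 g3T x3T == mul100 (mul100 (pow100 0 x3T) (pow100 1 y3T)) g3T) &&
  (mul100 g3T y3T == mul100 (mul100 (pow100 1 x3T) (pow100 2 y3T)) g3T) &&
  decide tab9.Nodup

/-- Relations for the prime five. -/
def checkFive : Bool :=
  memB x5T && memB y5T && memB z5T && memB g5T &&
  (mul100 x5T y5T == mul100 (mul100 z5T y5T) x5T) &&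
  (mul100 x5T z5T == mul100 z5T x5T) && (mul100 y5T z5T == mul100 z5T y5T) &&
  (pow100 5 x5T == one100) && (pow100 5 y5T == one100) &&
  (mul100 g5T x5T ==
    mul100 (mul100 (mul100 (pow100 1 x5T) (pow100 2 y5T)) (pow100 3 z5T)) g5T) &&
  (mul100 g5T y5T ==
    mul100 (mul100 (mul100 (pow100 1 x5T) (pow100 4 y5T)) (pow100 4 z5T)) g5T) &&
  (mul100 g5T z5T == mul100 (pow100 2 z5T) g5T) &&
  decide tab125.Nodup

theorem checkThree_ok : checkThree = true := by decide +kernel

theorem checkFive_ok : checkFive = true := by decide +kernel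

end Cfsg.Agent.H94.HS
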