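import Cfsg.Agent.H94.Mult.ThreePart
import Cfsg.Agent.H50.MultiplierBound

/-!
Odd Sylow subgroups that are elementary of rank two or extraspecial of exponent `p` contribute
nothing to the kernel of a stem extension once one conjugation acts suitably on them.
-/

set_option autoImplicit false

namespace Cfsg.Agent.H94.HS

open Cfsg
open Cfsg.Agent.H94.Mult (comm_mem_of_closure)
open scoped commutatorElement

variable {G Γ : Type} [Group G] [Finite G] [Group Γ] [Finite Γ] {σ : Γ →* G}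

lemma ker_comm (hσ : IsStemExtension σ) {k : Γ} (hk : σ k = 1) (u : Γ) : u * k = k * u :=
  Subgroup.mem_center_iff.1 (hσ.2.1 (MonoidHom.mem_ker.2 hk)) u

/-- Two central twists multiply. -/
lemma twist_mul {u v e f Z : Γ} (hf : ∀ w, w * f = f * w) (hu : u * Z * u⁻¹ = e * Z)
    (hv : v * Z * v⁻¹ = f * Z) : u * v * Z * (u * v)⁻¹ = e * f * Z := by
  calc u * v * Z * (u * v)⁻¹ = u * (v * Z * v⁻¹) * u⁻¹ := by group
    _ = (u * f) * Z * u⁻¹ := by rw [hv]; group
    _ = f * (u * Z * u⁻¹) := by rw [hf u]; group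
    _ = _ := by rw [hu, ← mul_assoc, hf e]

lemma twist_pow {u e Z : Γ} (he : ∀ w, w * e = e * w) (hu : u * Z * u⁻¹ = e * Z) :
    ∀ n : ℕ, u ^ n * Z * (u ^ n)⁻¹ = e ^ n * Z
  | 0 => by simp
  | n + 1 => by
    rw [pow_succ, pow_succ]
    exact twist_mul he (twist_pow he hu n) hu

lemma twist_pow_right {u e Z : Γ} (he : ∀ w, w * e = e * w) (hu : u * Z * u⁻¹ = e * Z) (n : ℕ) :
    u * Z ^ n * u⁻¹ = e ^ n * Z ^ n := by
  rw [← conj_pow, hu, (show Commute e Z from (he Z).symm).mul_pow]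

/-- A cyclic central group containing the commutators of generators contains all commutators. -/
lemma commutator_le_of_gens {s : Set Γ} {P0 D : Subgroup Γ} (hs : Subgroup.closure s = P0)
    (hDn : P0 ≤ Subgroup.normalizer (D : Set Γ)) (h : ∀ a ∈ s, ∀ b ∈ s, ⁅a, b⁆ ∈ D) :
    ⁅P0, P0⁆ ≤ D := by
  rw [Subgroup.commutator_le]
  intro a ha b hb
  rw [← commutatorElement_inv]
  refine inv_mem (comm_mem_of_closure hDn hs (g := a) (fun c hc => ?_) b hb)
  rw [← commutatorElement_inv]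
  exact inv_mem (comm_mem_of_closure hDn hs (g := c) (fun d hd => h d hd c hc) a ha)

lemma commutatorElement_eq_one_of_comm {a b : Γ} (h : a * b = b * a) : ⁅a, b⁆ = 1 :=
  commutatorElement_eq_one_iff_mul_comm.2 h

/-- The common end: the preimage of the Sylow subgroup has derived group inside `D`. -/
lemma eq_one_of_le (hσ : IsStemExtension σ) {p : ℕ} (Q : Subgroup G)
    (hidx : p.Coprime Q.index) {D : Subgroup Γ}
    (hQ : ⁅Q.comap σ, Q.comap σ⁆ ≤ D) (hD : ∀ v ∈ D, σ v = 1 → v = 1)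
    (v : Γ) (hv : v ∈ σ.ker) (hvp : v ^ p = 1) : v = 1 := by
  obtain ⟨_, hc⟩ := Cfsg.Agent.H50.mem_commutator_comap hσ Q hidx v hv hvp
  refine hD v (hQ ?_) hv
  rw [← Subgroup.map_subtype_commutator]
  exact ⟨_, hc, rfl⟩

theorem eq_one_abelian (hσ : IsStemExtension σ) {p : ℕ} (hp : p.Prime) (x y g : G) (a b c d : ℕ)
    (hxy : x * y = y * x) (hx : x ^ p = 1) (hy : y ^ p = 1)
    (hgx : g * x * g⁻¹ = x ^ a * y ^ b) (hgy : g * y * g⁻¹ = x ^ c * y ^ d)
    (hdet : IsCoprime ((a * d : ℕ) - (b * c : ℕ) - 1 : ℤ) p)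
    (hinj : Function.Injective fun t : Fin p × Fin p => x ^ (t.1 : ℕ) * y ^ (t.2 : ℕ))
    (hord : ¬ p ^ 3 ∣ Nat.card G) (v : Γ) (hv : v ∈ σ.ker) (hvp : v ^ p = 1) : v = 1 := by
  obtain ⟨X, hX⟩ := hσ.1 x
  obtain ⟨Y, hY⟩ := hσ.1 y
  obtain ⟨H, hH⟩ := hσ.1 g
  set W := ⁅X, Y⁆ with hWdef
  have hW1 : σ W = 1 := by
    rw [hWdef, map_commutatorElement, hX, hY]
    exact commutatorElement_eq_one_iff_mul_comm.2 hxy
  have hWc := ker_comm hσ hW1
  have hXY : X * Y * X⁻¹ = W * Y := by rw [hWdef, commutatorElement_def]; group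
  have hYY : Y * Y * Y⁻¹ = 1 * Y := by group
  have hYX : Y * X * Y⁻¹ = W⁻¹ * X := by rw [hWdef, commutatorElement_def]; group
  have hXX : X * X * X⁻¹ = 1 * X := by group
  have h1c : ∀ w : Γ, w * 1 = 1 * w := fun w => by simp
  have hWi : ∀ w : Γ, w * W⁻¹ = W⁻¹ * w := ker_comm hσ (by rw [map_inv, hW1, inv_one])
  have hWp : W ^ p = 1 := by
    have hXp : σ (X ^ p) = 1 := by rw [map_pow, hX, hx]
    have h := twist_pow hWc hXY p
    rwa [ker_comm hσ (k := X ^ p) hXp Y |>.symm, mul_inv_cancel_right, right_eq_mul] at h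
  set u := H * X * H⁻¹ with hu
  set w := H * Y * H⁻¹ with hw
  obtain ⟨k, hk, hk'⟩ : ∃ k, σ k = 1 ∧ u = X ^ a * Y ^ b * k := by
    refine ⟨(X ^ a * Y ^ b)⁻¹ * u, ?_, (mul_inv_cancel_left _ _).symm⟩
    rw [map_mul, map_inv, hu]
    simp only [map_mul, map_inv, map_pow, hX, hY, hH, hgx, inv_mul_cancel]
  obtain ⟨l, hl, hl'⟩ : ∃ l, σ l = 1 ∧ w = X ^ c * Y ^ d * l := by
    refine ⟨(X ^ c * Y ^ d)⁻¹ * w, ?_, (mul_inv_cancel_left _ _).symm⟩
    rw [map_mul, map_inv, hw]
    simp only [map_mul, map_inv, map_pow, hX, hY, hH, hgy, inv_mul_cancel]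
  have hWa : ∀ (n : ℕ) (z : Γ), z * W ^ n = W ^ n * z := fun n z =>
    ker_comm hσ (by rw [map_pow, hW1, one_pow]) z
  have hWb : ∀ (n : ℕ) (z : Γ), z * W⁻¹ ^ n = W⁻¹ ^ n * z := fun n z =>
    ker_comm hσ (by rw [map_pow, map_inv, hW1, inv_one, one_pow]) z
  have htY : u * Y * u⁻¹ = W ^ a * Y := by
    have hkY : k * Y * k⁻¹ = 1 * Y := by
      rw [← ker_comm hσ hk Y, mul_inv_cancel_right, one_mul]
    have h := twist_mul h1c (twist_mul (hf := fun z => by simp) (twist_pow hWc hXY a)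
      (twist_pow h1c hYY b)) hkY
    rw [hk']
    simpa using h
  have htX : u * X * u⁻¹ = W⁻¹ ^ b * X := by
    have hkX : k * X * k⁻¹ = 1 * X := by
      rw [← ker_comm hσ hk X, mul_inv_cancel_right, one_mul]
    have h := twist_mul h1c (twist_mul (hWb b) (twist_pow h1c hXX a) (twist_pow hWi hYX b)) hkX
    rw [hk']
    simpa using h
  have hW' : W = W⁻¹ ^ (b * c) * W ^ (a * d) := by
    have e1 : u * w * u⁻¹ = (u * X ^ c * u⁻¹) * (u * Y ^ d * u⁻¹) * (u * l * u⁻¹) := by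
      rw [hl']; group
    rw [twist_pow_right (hWb b) htX, twist_pow_right (hWa a) htY, ker_comm hσ hl u,
      mul_inv_cancel_right, ← pow_mul, ← pow_mul] at e1
    have e2 : u * w * u⁻¹ = W⁻¹ ^ (b * c) * W ^ (a * d) * w := by
      rw [e1, hl', show W⁻¹ ^ (b * c) * X ^ c * (W ^ (a * d) * Y ^ d)
        = W⁻¹ ^ (b * c) * (X ^ c * W ^ (a * d)) * Y ^ d by group, hWa (a * d) (X ^ c)]
      group
    have e3 : H * W * H⁻¹ = W := by rw [hWc H, mul_inv_cancel_right]
    calc W = H * W * H⁻¹ := e3.symm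
      _ = u * w * u⁻¹ * w⁻¹ := by rw [hWdef, commutatorElement_def, hu, hw]; group
      _ = _ := by rw [e2, mul_inv_cancel_right]
  have hW : W = 1 := by
    obtain ⟨s, t, hst⟩ := hdet
    have h1 : W ^ (((a * d : ℕ) : ℤ) - (b * c : ℕ) - 1) = 1 := by
      rw [zpow_sub, zpow_sub, zpow_natCast, zpow_natCast, zpow_one, ← inv_pow]
      rw [← hWb (b * c) (W ^ (a * d))] at hW'
      rw [← hW', mul_inv_cancel]
    rw [← zpow_one W, ← hst, zpow_add, zpow_mul', zpow_mul', h1, zpow_natCast, hWp, one_zpow,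
      one_zpow, one_mul]
  have hcomm : X * Y = Y * X := commutatorElement_eq_one_iff_mul_comm.1 hW
  set Q : Subgroup G := Subgroup.closure {x, y} with hQ
  have hform : ∀ q ∈ Q, ∃ i : Fin p, ∃ j : Fin p, x ^ (i : ℕ) * y ^ (j : ℕ) = q := by
    intro q hq
    have hq' : q ∈ Submonoid.closure {x, y} := by
      rw [← Subgroup.closure_toSubmonoid_of_finite]; exact hq
    clear hq
    induction hq' using Submonoid.closure_induction_right with
    | one => exact ⟨⟨0, hp.pos⟩, ⟨0, hp.pos⟩, by simp⟩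
    | mul_right q _ r hr ih =>
      obtain ⟨i, j, rfl⟩ := ih
      rcases hr with rfl | rfl
      · refine ⟨⟨((i : ℕ) + 1) % p, Nat.mod_lt _ hp.pos⟩, j, ?_⟩
        rw [← pow_eq_pow_mod _ hx, pow_succ, mul_assoc _ r,
          ← (Commute.pow_left (Eq.symm hxy) (j : ℕ)).eq, ← mul_assoc]
      · exact ⟨i, ⟨((j : ℕ) + 1) % p, Nat.mod_lt _ hp.pos⟩, by
          rw [← pow_eq_pow_mod _ hy, pow_succ, mul_assoc]⟩
  have hcard : Nat.card Q = p ^ 2 := by
    have hb : Function.Bijective fun t : Fin p × Fin p =>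
        (⟨x ^ (t.1 : ℕ) * y ^ (t.2 : ℕ), mul_mem (pow_mem (Subgroup.subset_closure (by simp)) _)
          (pow_mem (Subgroup.subset_closure (by simp)) _)⟩ : Q) := by
      refine ⟨fun t t' h => hinj (congrArg Subtype.val h), fun q => ?_⟩
      obtain ⟨i, j, e⟩ := hform q.1 q.2
      exact ⟨(i, j), Subtype.ext e⟩
    rw [← Nat.card_eq_of_bijective _ hb, Nat.card_prod, Nat.card_fin, sq]
  have hidx : p.Coprime Q.index := by
    refine hp.coprime_iff_not_dvd.2 fun hd => hord ?_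
    rw [← Q.card_mul_index, hcard, pow_succ p 2]
    exact mul_dvd_mul_left _ hd
  refine eq_one_of_le hσ Q hidx (D := ⊥) ?_ (fun v h _ => Subgroup.mem_bot.1 h) v hv hvp
  have hgen : Subgroup.closure ({X, Y} ∪ {q | σ q = 1}) = Q.comap σ := by
    refine le_antisymm ((Subgroup.closure_le _).2 ?_) fun q hq => ?_
    · rintro q ((rfl | rfl) | hq)
      · show σ q ∈ Q; rw [hX]; exact Subgroup.subset_closure (by simp)
      · show σ q ∈ Q; rw [hY]; exact Subgroup.subset_closure (by simp)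
      · show σ q ∈ Q; rw [show σ q = 1 from hq]; exact one_mem _
    · obtain ⟨i, j, e⟩ := hform _ hq
      have h1 : (X ^ (i : ℕ) * Y ^ (j : ℕ))⁻¹ * q ∈ Subgroup.closure ({X, Y} ∪ {q | σ q = 1}) :=
        Subgroup.subset_closure (.inr (by
          show σ ((X ^ (i : ℕ) * Y ^ (j : ℕ))⁻¹ * q) = 1
          simp only [map_mul, map_inv, map_pow, hX, hY, e, inv_mul_cancel]))
      have hXm : X ∈ Subgroup.closure ({X, Y} ∪ {q | σ q = 1}) :=
        Subgroup.subset_closure (.inl (by simp))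
      have hYm : Y ∈ Subgroup.closure ({X, Y} ∪ {q | σ q = 1}) :=
        Subgroup.subset_closure (.inl (by simp))
      have := mul_mem (mul_mem (pow_mem hXm (i : ℕ)) (pow_mem hYm (j : ℕ))) h1
      rwa [mul_inv_cancel_left] at this
  refine commutator_le_of_gens hgen ?_ ?_
  · rw [Subgroup.normalizer_eq_top]; exact le_top
  · rintro q ((rfl | rfl) | hq) r hr <;> refine Subgroup.mem_bot.2 (commutatorElement_eq_one_of_comm ?_)
    · rcases hr with (rfl | rfl) | hr
      exacts [rfl, hcomm, ker_comm hσ hr _]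
    · rcases hr with (rfl | rfl) | hr
      exacts [hcomm.symm, rfl, ker_comm hσ hr _]
    · exact (ker_comm hσ hq _).symm

theorem eq_one_extraspecial (hσ : IsStemExtension σ) {p : ℕ} (hp : p.Prime) (x y z g : G)
    (a b s c d t D : ℕ) (hz : z = ⁅x, y⁆) (hxz : x * z = z * x) (hyz : y * z = z * y)
    (hx : x ^ p = 1) (hy : y ^ p = 1)
    (hgx : g * x * g⁻¹ = x ^ a * y ^ b * z ^ s) (hgy : g * y * g⁻¹ = x ^ c * y ^ d * z ^ t)
    (hgz : g * z * g⁻¹ = z ^ D)
    (hdet : IsCoprime (((a * D : ℕ) - 1 : ℤ) * ((d * D : ℕ) - 1) - (b * D : ℕ) * (c * D : ℕ)) p)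
    (hinj : Function.Injective fun t : Fin p × Fin p × Fin p =>
      x ^ (t.1 : ℕ) * y ^ (t.2.1 : ℕ) * z ^ (t.2.2 : ℕ))
    (hord : ¬ p ^ 4 ∣ Nat.card G) (v : Γ) (hv : v ∈ σ.ker) (hvp : v ^ p = 1) : v = 1 := by
  obtain ⟨X, hX⟩ := hσ.1 x
  obtain ⟨Y, hY⟩ := hσ.1 y
  obtain ⟨H, hH⟩ := hσ.1 g
  set Z := ⁅X, Y⁆ with hZdef
  have hZ : σ Z = z := by rw [hZdef, map_commutatorElement, hX, hY, hz]
  set A := ⁅X, Z⁆ with hAdef
  set B := ⁅Y, Z⁆ with hBdef
  have hA1 : σ A = 1 := by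
    rw [hAdef, map_commutatorElement, hX, hZ]; exact commutatorElement_eq_one_iff_mul_comm.2 hxz
  have hB1 : σ B = 1 := by
    rw [hBdef, map_commutatorElement, hY, hZ]; exact commutatorElement_eq_one_iff_mul_comm.2 hyz
  have hAc := ker_comm hσ hA1
  have hBc := ker_comm hσ hB1
  have hXZ : X * Z * X⁻¹ = A * Z := by rw [hAdef, commutatorElement_def]; group
  have hYZ : Y * Z * Y⁻¹ = B * Z := by rw [hBdef, commutatorElement_def]; group
  have hZZ : Z * Z * Z⁻¹ = 1 * Z := by group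
  have h1c : ∀ w : Γ, w * 1 = 1 * w := fun w => by simp
  have hAp : A ^ p = 1 := by
    have h := twist_pow hAc hXZ p
    rwa [(ker_comm hσ (k := X ^ p) (by rw [map_pow, hX, hx]) Z).symm, mul_inv_cancel_right,
      right_eq_mul] at h
  have hBp : B ^ p = 1 := by
    have h := twist_pow hBc hYZ p
    rwa [(ker_comm hσ (k := Y ^ p) (by rw [map_pow, hY, hy]) Z).symm, mul_inv_cancel_right,
      right_eq_mul] at h
  obtain ⟨m, hm, hm'⟩ : ∃ m, σ m = 1 ∧ H * Z * H⁻¹ = Z ^ D * m := by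
    refine ⟨(Z ^ D)⁻¹ * (H * Z * H⁻¹), ?_, (mul_inv_cancel_left _ _).symm⟩
    simp only [map_mul, map_inv, map_pow, hH, hZ, hgz, inv_mul_cancel]
  have hact : ∀ (W : Γ) (w : G), σ W = w → ∀ α β γ : ℕ, g * w * g⁻¹ = x ^ α * y ^ β * z ^ γ →
      H * ⁅W, Z⁆ * H⁻¹ = A ^ (α * D) * B ^ (β * D) := by
    intro W w hW α β γ hgw
    obtain ⟨k, hk, hk'⟩ : ∃ k, σ k = 1 ∧ H * W * H⁻¹ = X ^ α * Y ^ β * Z ^ γ * k := by
      refine ⟨(X ^ α * Y ^ β * Z ^ γ)⁻¹ * (H * W * H⁻¹), ?_, (mul_inv_cancel_left _ _).symm⟩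
      simp only [map_mul, map_inv, map_pow, hX, hY, hZ, hH, hW, hgw, inv_mul_cancel]
    have hkZ : k * Z * k⁻¹ = 1 * Z := by rw [← ker_comm hσ hk Z, mul_inv_cancel_right, one_mul]
    have hBβ : ∀ w, w * B ^ β = B ^ β * w := ker_comm hσ (by rw [map_pow, hB1, one_pow])
    have hAB : ∀ w, w * (A ^ α * B ^ β) = A ^ α * B ^ β * w :=
      ker_comm hσ (by rw [map_mul, map_pow, map_pow, hA1, hB1, one_pow, one_pow, one_mul])
    have hU : (H * W * H⁻¹) * Z * (H * W * H⁻¹)⁻¹ = A ^ α * B ^ β * Z := by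
      rw [hk']
      simpa using twist_mul h1c (twist_mul (hf := fun w => by simp)
        (twist_mul hBβ (twist_pow hAc hXZ α) (twist_pow hBc hYZ β)) (twist_pow h1c hZZ γ)) hkZ
    have hUD := twist_pow_right hAB hU D
    set U := H * W * H⁻¹ with hUdef
    calc H * ⁅W, Z⁆ * H⁻¹ = U * (H * Z * H⁻¹) * U⁻¹ * (H * Z * H⁻¹)⁻¹ := by
          rw [hUdef, commutatorElement_def]; group
      _ = U * Z ^ D * (m * U⁻¹) * m⁻¹ * (Z ^ D)⁻¹ := by rw [hm']; group
      _ = U * Z ^ D * U⁻¹ * (Z ^ D)⁻¹ := by rw [← ker_comm hσ hm U⁻¹]; group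
      _ = (A ^ α * B ^ β) ^ D := by rw [hUD, mul_inv_cancel_right]
      _ = _ := by
        rw [(show Commute (A ^ α) (B ^ β) from hBβ _).mul_pow, pow_mul, pow_mul]
  have hA' := hact X x hX a b s hgx
  have hB' := hact Y y hY c d t hgy
  rw [← hAdef, hAc H, mul_inv_cancel_right] at hA'
  rw [← hBdef, hBc H, mul_inv_cancel_right] at hB'
  obtain ⟨hA, hB⟩ : A = 1 ∧ B = 1 := by
    obtain ⟨q, r, hqr⟩ := hdet
    have hAB : Commute A B := hBc A
    have e1 : A ^ (((a * D : ℕ) : ℤ) - 1) * B ^ ((b * D : ℕ) : ℤ) = 1 := by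
      rw [zpow_sub, zpow_one, zpow_natCast, zpow_natCast, mul_assoc,
        ((hAB.inv_left).pow_right (b * D)).eq, ← mul_assoc, ← hA', mul_inv_cancel]
    have e2 : A ^ ((c * D : ℕ) : ℤ) * B ^ (((d * D : ℕ) : ℤ) - 1) = 1 := by
      rw [zpow_sub, zpow_one, zpow_natCast, zpow_natCast, ← mul_assoc, ← hB', mul_inv_cancel]
    have key : ∀ (i j k l : ℤ), A ^ i * B ^ j = 1 → A ^ k * B ^ l = 1 →
        A ^ (i * l - j * k) = 1 ∧ B ^ (i * l - j * k) = 1 := by
      intro i j k l h1 h2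
      have hi : A ^ i = (B ^ j)⁻¹ := eq_inv_of_mul_eq_one_left h1
      have hk : A ^ k = (B ^ l)⁻¹ := eq_inv_of_mul_eq_one_left h2
      have hj : B ^ j = (A ^ i)⁻¹ := eq_inv_of_mul_eq_one_right h1
      have hl : B ^ l = (A ^ k)⁻¹ := eq_inv_of_mul_eq_one_right h2
      constructor
      · rw [zpow_sub, zpow_mul, hi, show j * k = k * j from mul_comm _ _, zpow_mul, hk, inv_zpow,
          inv_zpow, ← zpow_mul, ← zpow_mul, mul_comm j, mul_inv_cancel]
      · rw [zpow_sub, show i * l = l * i from mul_comm _ _, zpow_mul, hl, zpow_mul, hj, inv_zpow,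
          inv_zpow, ← zpow_mul, ← zpow_mul, mul_comm k, mul_inv_cancel]
    obtain ⟨k1, k2⟩ := key _ _ _ _ e1 e2
    constructor
    · rw [← zpow_one A, ← hqr, zpow_add, zpow_mul', zpow_mul', k1, zpow_natCast, hAp, one_zpow,
        one_zpow, one_mul]
    · rw [← zpow_one B, ← hqr, zpow_add, zpow_mul', zpow_mul', k2, zpow_natCast, hBp, one_zpow,
        one_zpow, one_mul]
  have hXZc : X * Z = Z * X := commutatorElement_eq_one_iff_mul_comm.1 hA
  have hYZc : Y * Z = Z * Y := commutatorElement_eq_one_iff_mul_comm.1 hB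
  have hZp : Z ^ p = 1 := by
    have e : X * Y * X⁻¹ = Z * Y := by rw [hZdef, commutatorElement_def]; group
    have h1 : (Z * Y) ^ p = Z ^ p * Y ^ p := (show Commute Z Y from hYZc.symm).mul_pow p
    rw [← e, conj_pow, ker_comm hσ (k := Y ^ p) (by rw [map_pow, hY, hy]) X,
      mul_inv_cancel_right, right_eq_mul] at h1
    exact h1
  set Q : Subgroup G := Subgroup.closure {x, y} with hQ
  have hzp : z ^ p = 1 := by rw [← hZ, ← map_pow, hZp, map_one]
  have hyx : y * x = x * y * z ^ (p - 1) := by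
    have hzi : z ^ (p - 1) = z⁻¹ := eq_inv_of_mul_eq_one_left (by
      rw [← pow_succ, Nat.sub_add_cancel hp.pos, hzp])
    rw [hzi, mul_assoc x, ((show Commute y z from hyz).inv_right).eq, ← mul_assoc,
      ((show Commute x z from hxz).inv_right).eq, hz, commutatorElement_def]
    group
  have hform : ∀ q ∈ Q, ∃ i j k : ℕ, x ^ i * y ^ j * z ^ k = q := by
    intro q hq
    have hq' : q ∈ Submonoid.closure {x, y} := by
      rw [← Subgroup.closure_toSubmonoid_of_finite]; exact hq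
    clear hq
    induction hq' using Submonoid.closure_induction_right with
    | one => exact ⟨0, 0, 0, by simp⟩
    | mul_right q _ r hr ih =>
      obtain ⟨i, j, k, rfl⟩ := ih
      rcases hr with rfl | rfl
      · have hj : ∀ j : ℕ, y ^ j * r = r * y ^ j * z ^ ((p - 1) * j) := by
          intro j
          induction j with
          | zero => simp
          | succ j ih =>
            rw [pow_succ, mul_assoc (y ^ j), hyx, ← mul_assoc, ← mul_assoc, ih, Nat.mul_succ,
              pow_add, mul_assoc (r * y ^ j) (z ^ _) y,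
              ((show Commute z y from hyz.symm).pow_left _).eq]
            simp only [mul_assoc]
        refine ⟨i + 1, j, (p - 1) * j + k, ?_⟩
        rw [mul_assoc (r ^ i * y ^ j), ((show Commute z r from hxz.symm).pow_left k).eq,
          ← mul_assoc, mul_assoc (r ^ i) (y ^ j) r, hj, pow_succ, pow_add]
        simp only [mul_assoc]
      · refine ⟨i, j + 1, k, ?_⟩
        rw [mul_assoc (x ^ i * r ^ j), ((show Commute z r from hyz.symm).pow_left k).eq, pow_succ]
        simp only [mul_assoc]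
  have hxQ : x ∈ Q := Subgroup.subset_closure (by simp)
  have hyQ : y ∈ Q := Subgroup.subset_closure (by simp)
  have hzQ : z ∈ Q := by
    rw [hz, commutatorElement_def]
    exact mul_mem (mul_mem (mul_mem hxQ hyQ) (inv_mem hxQ)) (inv_mem hyQ)
  have hcard : Nat.card Q = p ^ 3 := by
    have hb : Function.Bijective fun t : Fin p × Fin p × Fin p =>
        (⟨x ^ (t.1 : ℕ) * y ^ (t.2.1 : ℕ) * z ^ (t.2.2 : ℕ),
          mul_mem (mul_mem (pow_mem hxQ _) (pow_mem hyQ _)) (pow_mem hzQ _)⟩ : Q) := by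
      refine ⟨fun t t' h => hinj (congrArg Subtype.val h), fun q => ?_⟩
      obtain ⟨i, j, k, e⟩ := hform q.1 q.2
      refine ⟨(⟨i % p, Nat.mod_lt _ hp.pos⟩, ⟨j % p, Nat.mod_lt _ hp.pos⟩,
        ⟨k % p, Nat.mod_lt _ hp.pos⟩), Subtype.ext ?_⟩
      show x ^ (i % p) * y ^ (j % p) * z ^ (k % p) = q.1
      rw [← pow_eq_pow_mod _ hx, ← pow_eq_pow_mod _ hy, ← pow_eq_pow_mod _ hzp, e]
    rw [← Nat.card_eq_of_bijective _ hb]
    simp [Nat.card_prod]
    ring
  have hidx : p.Coprime Q.index := by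
    refine hp.coprime_iff_not_dvd.2 fun hd => hord ?_
    rw [← Q.card_mul_index, hcard, pow_succ p 3]
    exact mul_dvd_mul_left _ hd
  refine eq_one_of_le hσ Q hidx (D := Subgroup.zpowers Z) ?_ ?_ v hv hvp
  · set s : Set Γ := {X, Y} ∪ {q | σ q = 1} with hs
    have hgen : Subgroup.closure s = Q.comap σ := by
      refine le_antisymm ((Subgroup.closure_le _).2 ?_) fun q hq => ?_
      · rintro q ((rfl | rfl) | hq)
        · show σ q ∈ Q; rw [hX]; exact hxQ
        · show σ q ∈ Q; rw [hY]; exact hyQ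
        · show σ q ∈ Q; rw [show σ q = 1 from hq]; exact one_mem _
      · obtain ⟨i, j, k, e⟩ := hform _ hq
        have hXm : X ∈ Subgroup.closure s := Subgroup.subset_closure (.inl (by simp))
        have hYm : Y ∈ Subgroup.closure s := Subgroup.subset_closure (.inl (by simp))
        have hZm : Z ∈ Subgroup.closure s :=
          mul_mem (mul_mem (mul_mem hXm hYm) (inv_mem hXm)) (inv_mem hYm)
        have h1 : (X ^ i * Y ^ j * Z ^ k)⁻¹ * q ∈ Subgroup.closure s :=
          Subgroup.subset_closure (.inr (by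
            show σ ((X ^ i * Y ^ j * Z ^ k)⁻¹ * q) = 1
            simp only [map_mul, map_inv, map_pow, hX, hY, hZ, e, inv_mul_cancel]))
        have := mul_mem (mul_mem (mul_mem (pow_mem hXm i) (pow_mem hYm j)) (pow_mem hZm k)) h1
        rwa [mul_inv_cancel_left] at this
    refine commutator_le_of_gens hgen ?_ ?_
    · rw [← hgen, Subgroup.closure_le]
      intro q hq
      have hqZ : q * Z = Z * q := by
        rcases hq with (rfl | rfl) | hq
        exacts [hXZc, hYZc, (ker_comm hσ hq Z).symm]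
      refine Subgroup.mem_normalizer_iff.2 fun w => ?_
      constructor
      · intro hw
        obtain ⟨n, rfl⟩ := Subgroup.mem_zpowers_iff.1 hw
        rw [((show Commute q Z from hqZ).zpow_right n).eq, mul_inv_cancel_right]
        exact Subgroup.zpow_mem_zpowers Z n
      · intro hw
        obtain ⟨n, hn⟩ := Subgroup.mem_zpowers_iff.1 hw
        have : w = Z ^ n := by
          calc w = q⁻¹ * (q * w * q⁻¹) * q := by group
            _ = q⁻¹ * (Z ^ n * q) := by rw [hn]; group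
            _ = _ := by rw [← ((show Commute q Z from hqZ).zpow_right n).eq, inv_mul_cancel_left]
        rw [this]
        exact Subgroup.zpow_mem_zpowers Z n
    · have hzero : ∀ q r : Γ, σ q = 1 → ⁅q, r⁆ ∈ Subgroup.zpowers Z := fun q r h => by
        rw [commutatorElement_eq_one_of_comm (ker_comm hσ h r).symm]; exact one_mem _
      rintro q ((rfl | rfl) | hq) r hr
      · rcases hr with (rfl | rfl) | hr
        · rw [commutatorElement_eq_one_of_comm rfl]; exact one_mem _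
        · exact Subgroup.mem_zpowers Z
        · rw [← commutatorElement_inv]; exact inv_mem (hzero _ _ hr)
      · rcases hr with (rfl | rfl) | hr
        · rw [← commutatorElement_inv]; exact inv_mem (Subgroup.mem_zpowers Z)
        · rw [commutatorElement_eq_one_of_comm rfl]; exact one_mem _
        · rw [← commutatorElement_inv]; exact inv_mem (hzero _ _ hr)
      · exact hzero _ _ hq
  · intro w hw hw1
    obtain ⟨n, rfl⟩ := Subgroup.mem_zpowers_iff.1 hw
    have hz1 : z ≠ 1 := fun h => by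
      have e := @hinj (⟨0, hp.pos⟩, ⟨0, hp.pos⟩, ⟨1, hp.one_lt⟩)
        (⟨0, hp.pos⟩, ⟨0, hp.pos⟩, ⟨0, hp.pos⟩) (by simp [h])
      simp at e
    have ho : orderOf z = p := by
      have := Fact.mk hp
      exact orderOf_eq_prime hzp hz1
    obtain ⟨q, rfl⟩ : (p : ℤ) ∣ n := ho ▸ orderOf_dvd_iff_zpow_eq_one.2 (by
      rw [← hZ, ← map_zpow]; exact hw1)
    rw [zpow_mul, zpow_natCast, hZp, one_zpow]

end Cfsg.Agent.H94.HS
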