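import Cfsg.Agent.H94.HS.Perm100

/-!
The sign of a table, computed by counting inversions modulo two with bit masks.
-/

set_option autoImplicit false

namespace Cfsg.Agent.H94.HS

open Equiv Finset

/-- One step: the parity so far and the parities of the larger values seen. -/
def parStep (T : ℕ) (s : Bool × ℕ) (i : ℕ) : Bool × ℕ :=
  (s.1 ^^ s.2.testBit (app100 T i), s.2 ^^^ (2 ^ app100 T i - 1))

/-- The table is an odd permutation. -/
def oddB (T : ℕ) : Bool := ((List.range 100).foldl (parStep T) (false, 0)).1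

/-- The sign of a bit. -/
def sgn (b : Bool) : ℤˣ := if b then -1 else 1

lemma sgn_xor (a b : Bool) : sgn (a ^^ b) = sgn a * sgn b := by cases a <;> cases b <;> decide

lemma parStep_fold (T : ℕ) : ∀ n : ℕ,
    (∀ v, sgn (((List.range n).foldl (parStep T) (false, 0)).2.testBit v)
        = ∏ j ∈ range n, if v < app100 T j then -1 else 1) ∧
    sgn ((List.range n).foldl (parStep T) (false, 0)).1
      = ∏ i ∈ range n, ∏ j ∈ range i, if app100 T i < app100 T j then -1 else 1
  | 0 => by simp [sgn]
  | n + 1 => by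
    obtain ⟨h1, h2⟩ := parStep_fold T n
    simp only [List.range_succ, List.foldl_append, List.foldl_cons, List.foldl_nil, parStep]
    refine ⟨fun v => ?_, ?_⟩
    · rw [Nat.testBit_xor, sgn_xor, h1, prod_range_succ, Nat.testBit_two_pow_sub_one]
      congr 1
      simp [sgn]
    · rw [sgn_xor, h2, h1, prod_range_succ _ n]

lemma sign_eq_signAux {n : ℕ} (σ : Perm (Fin n)) : Perm.sign σ = Perm.signAux σ := by
  induction σ using Perm.swap_induction_on with
  | one => rw [map_one, Perm.signAux_one]
  | swap_mul f x y hxy ih =>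
    rw [map_mul, Perm.sign_swap hxy, Perm.signAux_mul, Perm.signAux_swap hxy, ih]

theorem sign_perm100 {T : ℕ} (h : ok100 T = true) : Perm.sign (perm100 T) = sgn (oddB T) := by
  rw [oddB, (parStep_fold T 100).2, sign_eq_signAux, Perm.signAux, Perm.finPairsLT, prod_sigma,
    ← Fin.prod_univ_eq_prod_range (fun i => ∏ j ∈ range i,
      if app100 T i < app100 T j then (-1 : ℤˣ) else 1) 100]
  refine prod_congr rfl fun a _ => ?_
  refine prod_bij (fun b _ => (b : ℕ)) (fun b hb => ?_) (fun b _ c _ e => Fin.ext e)
    (fun j hj => ⟨⟨j, (mem_range.1 hj).trans a.2⟩, (mem_attachFin _).2 hj, rfl⟩) fun b hb => ?_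
  · exact (mem_attachFin _).1 hb
  · have hne : (perm100 T a : ℕ) ≠ perm100 T b := fun e => by
      have hlt := mem_range.1 ((mem_attachFin _).1 hb)
      exact hlt.ne' (congrArg Fin.val ((perm100 T).injective (Fin.ext e)))
    rw [← perm100_val h, ← perm100_val h]
    refine if_congr (iff_of_eq ?_) rfl rfl
    rw [Fin.le_def]
    exact propext ⟨fun h' => lt_of_le_of_ne h' hne, le_of_lt⟩

lemma even_of_oddB {T : ℕ} (h : ok100 T = true) (ho : oddB T = false) :
    Perm.sign (perm100 T) = 1 := by rw [sign_perm100 h, ho]; rfl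

end Cfsg.Agent.H94.HS
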