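import Mathlib

/-!
Permutations of one hundred points as tables: seven bits per position.
-/

set_option autoImplicit false

namespace Cfsg.Agent.H94.HS

/-- Entry `i` of a table. -/
def app100 (T i : ℕ) : ℕ := (T >>> (7 * i)) &&& 127

/-- The table of a function, length `n`. -/
def mkAux : ℕ → (ℕ → ℕ) → ℕ
  | 0, _ => 0
  | n + 1, f => f 0 + 128 * mkAux n (fun i => f (i + 1))

/-- The table of a function on the hundred positions. -/
def mk100 (f : ℕ → ℕ) : ℕ := mkAux 100 f

lemma app100_eq (T i : ℕ) : app100 T i = T / 128 ^ i % 128 := by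
  rw [app100, Nat.shiftRight_eq_div_pow, show (127 : ℕ) = 2 ^ 7 - 1 by norm_num,
    Nat.and_two_pow_sub_one_eq_mod, pow_mul]
  norm_num

lemma app_mkAux : ∀ {n : ℕ} {f : ℕ → ℕ} {i : ℕ}, i < n → (∀ j < n, f j < 128) →
    app100 (mkAux n f) i = f i
  | 0, _, _, h, _ => absurd h (Nat.not_lt_zero _)
  | n + 1, f, i, hi, hf => by
    rw [app100_eq]
    cases i with
    | zero =>
      have := hf 0 hi
      simp only [mkAux, pow_zero, Nat.div_one]
      omega
    | succ i =>
      have ih := app_mkAux (f := fun i => f (i + 1)) (Nat.lt_of_succ_lt_succ hi)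
        (fun j hj => hf (j + 1) (Nat.succ_lt_succ hj))
      rw [app100_eq] at ih
      rw [← ih, pow_succ', ← Nat.div_div_eq_div_mul]
      have h0 := hf 0 (Nat.succ_pos n)
      have hq : (f 0 + 128 * mkAux n fun i => f (i + 1)) / 128 = mkAux n fun i => f (i + 1) := by
        omega
      simp only [mkAux, hq]

lemma mkAux_congr : ∀ {n : ℕ} {f f' : ℕ → ℕ}, (∀ i < n, f i = f' i) → mkAux n f = mkAux n f'
  | 0, _, _, _ => rfl
  | n + 1, f, f', h => by
    simp only [mkAux]
    rw [h 0 n.succ_pos, mkAux_congr (f' := fun i => f' (i + 1))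
      fun i hi => h (i + 1) (Nat.succ_lt_succ hi)]

/-- The set of images as a mask. -/
def imgMask (T : ℕ) : ℕ := (List.range 100).foldl (fun acc i => acc ||| 1 <<< app100 T i) 0

/-- A normal form table of a permutation of the hundred positions. -/
def ok100 (T : ℕ) : Bool :=
  (imgMask T == 2 ^ 100 - 1) && ((List.range 100).all fun i => decide (app100 T i < 100)) &&
    (mk100 (app100 T) == T)

lemma testBit_imgMask (T j : ℕ) :
    (imgMask T).testBit j = true ↔ ∃ i < 100, app100 T i = j := by
  have key : ∀ (l : List ℕ) (acc : ℕ),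
      (l.foldl (fun acc i => acc ||| 1 <<< app100 T i) acc).testBit j = true ↔
        (acc.testBit j = true ∨ ∃ i ∈ l, app100 T i = j) := by
    intro l
    induction l with
    | nil => simp
    | cons a t ih =>
      intro acc
      rw [List.foldl_cons, ih, Nat.testBit_or, Bool.or_eq_true, Nat.one_shiftLeft,
        Nat.testBit_two_pow, decide_eq_true_eq]
      simp only [List.mem_cons, exists_eq_or_imp]
      tauto
  rw [imgMask, key]
  simp [List.mem_range]

lemma ok100_lt {T : ℕ} (h : ok100 T = true) {i : ℕ} (hi : i < 100) : app100 T i < 100 := by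
  simp only [ok100, Bool.and_eq_true, List.all_eq_true, decide_eq_true_eq] at h
  exact h.1.2 i (List.mem_range.2 hi)

/-- The function of a table. -/
def fun100 (T : ℕ) (p : Fin 100) : Fin 100 :=
  if h : app100 T p < 100 then ⟨app100 T p, h⟩ else p

lemma fun100_bijective {T : ℕ} (h : ok100 T = true) : Function.Bijective (fun100 T) := by
  refine Finite.surjective_iff_bijective.1 fun q => ?_
  have h' := h
  simp only [ok100, Bool.and_eq_true, beq_iff_eq] at h'
  have hq : (imgMask T).testBit q = true := by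
    rw [h'.1.1, Nat.testBit_two_pow_sub_one]; simp
  obtain ⟨i, hi, e⟩ := (testBit_imgMask T q).1 hq
  refine ⟨⟨i, hi⟩, Fin.ext ?_⟩
  simp [fun100, e, q.2]

/-- The permutation of a table. -/
noncomputable def perm100 (T : ℕ) : Equiv.Perm (Fin 100) :=
  if h : Function.Bijective (fun100 T) then Equiv.ofBijective _ h else 1

lemma perm100_val {T : ℕ} (h : ok100 T = true) (p : Fin 100) :
    (perm100 T p : ℕ) = app100 T p := by
  rw [perm100, dif_pos (fun100_bijective h)]
  simp [fun100, ok100_lt h p.2]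

lemma mk100_perm {T : ℕ} (h : ok100 T = true) :
    T = mk100 (fun i => if hi : i < 100 then (perm100 T ⟨i, hi⟩ : ℕ) else 0) := by
  have h' := h
  simp only [ok100, Bool.and_eq_true, beq_iff_eq] at h'
  conv_lhs => rw [← h'.2]
  exact mkAux_congr fun i hi => by rw [dif_pos hi, perm100_val h]

lemma perm100_inj {A B : ℕ} (hA : ok100 A = true) (hB : ok100 B = true)
    (h : perm100 A = perm100 B) : A = B := by
  rw [mk100_perm hA, mk100_perm hB, h]

lemma of_pointwise {T : ℕ} (σ : Equiv.Perm (Fin 100))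
    (hT : T = mk100 fun i => if hi : i < 100 then (σ ⟨i, hi⟩ : ℕ) else 0) :
    ok100 T = true ∧ perm100 T = σ := by
  have happ : ∀ i (hi : i < 100), app100 T i = σ ⟨i, hi⟩ := by
    intro i hi
    rw [hT, mk100, app_mkAux hi fun j hj => ?_, dif_pos hi]
    rw [dif_pos hj]
    exact (σ ⟨j, hj⟩).2.trans (by norm_num)
  have hok : ok100 T = true := by
    simp only [ok100, Bool.and_eq_true, List.all_eq_true, decide_eq_true_eq, beq_iff_eq,
      List.mem_range]
    refine ⟨⟨Nat.eq_of_testBit_eq fun j => Bool.eq_iff_iff.2 ?_, fun i hi => ?_⟩, ?_⟩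
    · rw [testBit_imgMask, Nat.testBit_two_pow_sub_one, decide_eq_true_eq]
      constructor
      · rintro ⟨i, hi, rfl⟩; rw [happ i hi]; exact (σ _).2
      · intro hj
        exact ⟨σ.symm ⟨j, hj⟩, (σ.symm ⟨j, hj⟩).2, by rw [happ _ (σ.symm ⟨j, hj⟩).2]; simp⟩
    · rw [happ i hi]; exact (σ _).2
    · conv_rhs => rw [hT]
      exact mkAux_congr fun i hi => by rw [happ i hi, dif_pos hi]
  exact ⟨hok, Equiv.ext fun p => Fin.ext (by rw [perm100_val hok, happ _ p.2])⟩

/-- Composition of tables, left after right. -/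
def mul100 (A B : ℕ) : ℕ := mk100 fun i => app100 A (app100 B i)

lemma mul100_spec {A B : ℕ} (hA : ok100 A = true) (hB : ok100 B = true) :
    ok100 (mul100 A B) = true ∧ perm100 (mul100 A B) = perm100 A * perm100 B :=
  of_pointwise _ <| mkAux_congr fun i hi => by
    rw [dif_pos hi, Equiv.Perm.mul_apply, perm100_val hA, perm100_val hB]

/-- The identity table. -/
def one100 : ℕ := mk100 id

lemma one100_spec : ok100 one100 = true ∧ perm100 one100 = 1 :=
  of_pointwise _ <| mkAux_congr fun i hi => by rw [dif_pos hi, Equiv.Perm.one_apply]; rfl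

/-- Powers of a table. -/
def pow100 : ℕ → ℕ → ℕ
  | 0, _ => one100
  | n + 1, T => mul100 (pow100 n T) T

lemma pow100_spec {T : ℕ} (h : ok100 T = true) :
    ∀ n, ok100 (pow100 n T) = true ∧ perm100 (pow100 n T) = perm100 T ^ n
  | 0 => ⟨one100_spec.1, by rw [pow100, one100_spec.2, pow_zero]⟩
  | n + 1 => by
    obtain ⟨h1, h2⟩ := pow100_spec h n
    obtain ⟨h3, h4⟩ := mul100_spec h1 h
    exact ⟨h3, by rw [pow100, h4, h2, pow_succ]⟩

end Cfsg.Agent.H94.HS
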