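import Cfsg.Agent.H94.HS.ChkUpper
import Cfsg.Agent.H94.HS.ChkOrd
import Cfsg.Agent.H94.HS.ChkClosed
import Cfsg.Agent.H94.HS.ChkClosedB
import Cfsg.Agent.H94.HS.ChkWit
import Cfsg.Agent.H94.HS.CertSound
import Cfsg.Agent.H94.HS.OddUpper
import Cfsg.Agent.H94.HS.Group
import Cfsg.Agent.H50.MultiplierBound

/-!
The kernel of a stem extension of HS is an image of the group of order two.
-/

set_option autoImplicit false

namespace Cfsg.Agent.H94.HS

open Cfsg Equiv
open scoped commutatorElement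

attribute [local irreducible] x3T y3T g3T x5T y5T z5T g5T one100 mul100 pow100 perm100 memB

variable {A B : ℕ}

lemma perm_mul_eq {C D : ℕ} (hA : ok100 A = true) (hB : ok100 B = true) (hC : ok100 C = true)
    (hD : ok100 D = true) (h : mul100 A B = mul100 C D) :
    perm100 A * perm100 B = perm100 C * perm100 D := by
  rw [← (mul100_spec hA hB).2, ← (mul100_spec hC hD).2, h]

lemma perm_pow_eq_one (hA : ok100 A = true) {n : ℕ} (h : pow100 n A = one100) :
    perm100 A ^ n = 1 := by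
  rw [← (pow100_spec hA n).2, h, one100_spec.2]

lemma odd_three {Γ : Type} [Group Γ] [Finite Γ] {σ : Γ →* ↥hsE} (hσ : IsStemExtension σ) :
    ∀ v ∈ σ.ker, v ^ 3 = 1 → v = 1 := by
  intro v hv hv3
  have h := checkThree_ok
  simp only [checkThree, Bool.and_eq_true, beq_iff_eq, decide_eq_true_eq] at h
  obtain ⟨⟨⟨⟨⟨⟨⟨⟨hx, hy⟩, hg⟩, hxy⟩, hx3⟩, hy3⟩, hgx⟩, hgy⟩, hnd⟩ := h
  obtain ⟨ox, mx⟩ := memB_mem hx
  obtain ⟨oy, my⟩ := memB_mem hy
  obtain ⟨og, mg⟩ := memB_mem hg
  have rhs : ∀ i j, perm100 (mul100 (pow100 i x3T) (pow100 j y3T))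
      = perm100 x3T ^ i * perm100 y3T ^ j := fun i j => by
    rw [(mul100_spec (pow100_spec ox i).1 (pow100_spec oy j).1).2, (pow100_spec ox i).2,
      (pow100_spec oy j).2]
  have okr : ∀ i j, ok100 (mul100 (pow100 i x3T) (pow100 j y3T)) = true := fun i j =>
    (mul100_spec (pow100_spec ox i).1 (pow100_spec oy j).1).1
  refine eq_one_abelian hσ (p := 3) Nat.prime_three ⟨perm100 x3T, mx⟩ ⟨perm100 y3T, my⟩
    ⟨perm100 g3T, mg⟩ 0 1 1 2 (Subtype.ext (perm_mul_eq ox oy oy ox hxy))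
    (Subtype.ext (perm_pow_eq_one ox hx3)) (Subtype.ext (perm_pow_eq_one oy hy3))
    (Subtype.ext ?_) (Subtype.ext ?_) ?_ ?_ ?_ v hv hv3
  · have := perm_mul_eq og ox (okr 0 1) og hgx
    rw [rhs] at this
    simp only [Subgroup.coe_mul, Subgroup.coe_inv, SubgroupClass.coe_pow]
    rw [this, mul_inv_cancel_right]
  · have := perm_mul_eq og oy (okr 1 2) og hgy
    rw [rhs] at this
    simp only [Subgroup.coe_mul, Subgroup.coe_inv, SubgroupClass.coe_pow]
    rw [this, mul_inv_cancel_right]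
  · norm_num [Int.isCoprime_iff_gcd_eq_one]
  · intro s t hst
    have hst' := congrArg Subtype.val hst
    simp only [Subgroup.coe_mul, SubgroupClass.coe_pow, ← rhs] at hst'
    have e := perm100_inj (okr _ _) (okr _ _) hst'
    let F : Fin 3 × Fin 3 → ℕ := fun u =>
      mul100 (pow100 u.1 x3T) (pow100 u.2 y3T)
    have hF : Function.Injective F := by
      have hl : (((List.finRange 3).flatMap fun i => (List.finRange 3).map fun j => (i, j)).map F)
          = tab9 := by
        simp only [tab9, List.finRange_succ, List.finRange_zero, List.range_succ, List.range_zero,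
          List.map_cons, List.map_nil, List.flatMap_cons, List.flatMap_nil, List.append_nil,
          List.nil_append, List.cons_append, F]
        rfl
      intro a b hab
      refine List.inj_on_of_nodup_map (hl ▸ hnd) ?_ ?_ hab <;> simp
    exact hF e
  · rw [card_hsE]; norm_num

lemma odd_five {Γ : Type} [Group Γ] [Finite Γ] {σ : Γ →* ↥hsE} (hσ : IsStemExtension σ) :
    ∀ v ∈ σ.ker, v ^ 5 = 1 → v = 1 := by
  intro v hv hv5
  have h := checkFive_ok
  simp only [checkFive, Bool.and_eq_true, beq_iff_eq, decide_eq_true_eq] at h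
  obtain ⟨⟨⟨⟨⟨⟨⟨⟨⟨⟨⟨⟨hx, hy⟩, hz⟩, hg⟩, hxy⟩, hxz⟩, hyz⟩, hx5⟩, hy5⟩, hgx⟩, hgy⟩, hgz⟩, hnd⟩ := h
  obtain ⟨ox, mx⟩ := memB_mem hx
  obtain ⟨oy, my⟩ := memB_mem hy
  obtain ⟨oz, mz⟩ := memB_mem hz
  obtain ⟨og, mg⟩ := memB_mem hg
  have okr : ∀ i j k,
      ok100 (mul100 (mul100 (pow100 i x5T) (pow100 j y5T)) (pow100 k z5T)) = true := fun i j k =>
    (mul100_spec (mul100_spec (pow100_spec ox i).1 (pow100_spec oy j).1).1 (pow100_spec oz k).1).1
  have rhs : ∀ i j k, perm100 (mul100 (mul100 (pow100 i x5T) (pow100 j y5T)) (pow100 k z5T))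
      = perm100 x5T ^ i * perm100 y5T ^ j * perm100 z5T ^ k := fun i j k => by
    rw [(mul100_spec (mul100_spec (pow100_spec ox i).1 (pow100_spec oy j).1).1
      (pow100_spec oz k).1).2, (mul100_spec (pow100_spec ox i).1 (pow100_spec oy j).1).2,
      (pow100_spec ox i).2, (pow100_spec oy j).2, (pow100_spec oz k).2]
  refine eq_one_extraspecial hσ (p := 5) Nat.prime_five ⟨perm100 x5T, mx⟩ ⟨perm100 y5T, my⟩
    ⟨perm100 z5T, mz⟩ ⟨perm100 g5T, mg⟩ 1 2 3 1 4 4 2 (Subtype.ext ?_)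
    (Subtype.ext (perm_mul_eq ox oz oz ox hxz)) (Subtype.ext (perm_mul_eq oy oz oz oy hyz))
    (Subtype.ext (perm_pow_eq_one ox hx5)) (Subtype.ext (perm_pow_eq_one oy hy5))
    (Subtype.ext ?_) (Subtype.ext ?_) (Subtype.ext ?_) ?_ ?_ ?_ v hv hv5
  · have := perm_mul_eq ox oy (mul100_spec oz oy).1 ox hxy
    rw [(mul100_spec oz oy).2] at this
    simp only [commutatorElement_def, Subgroup.coe_mul, Subgroup.coe_inv]
    rw [this]
    simp [mul_assoc]
  · have := perm_mul_eq og ox (okr 1 2 3) og hgx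
    rw [rhs] at this
    simp only [Subgroup.coe_mul, Subgroup.coe_inv, SubgroupClass.coe_pow]
    rw [this, mul_inv_cancel_right]
  · have := perm_mul_eq og oy (okr 1 4 4) og hgy
    rw [rhs] at this
    simp only [Subgroup.coe_mul, Subgroup.coe_inv, SubgroupClass.coe_pow]
    rw [this, mul_inv_cancel_right]
  · have := perm_mul_eq og oz (pow100_spec oz 2).1 og hgz
    rw [(pow100_spec oz 2).2] at this
    simp only [Subgroup.coe_mul, Subgroup.coe_inv, SubgroupClass.coe_pow]
    rw [this, mul_inv_cancel_right]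
  · norm_num [Int.isCoprime_iff_gcd_eq_one]
  · intro s t hst
    have hst' := congrArg Subtype.val hst
    simp only [Subgroup.coe_mul, SubgroupClass.coe_pow, ← rhs] at hst'
    have e := perm100_inj (okr _ _ _) (okr _ _ _) hst'
    let F : ℕ × ℕ × ℕ → ℕ := fun u =>
      mul100 (mul100 (pow100 u.1 x5T) (pow100 u.2.1 y5T)) (pow100 u.2.2 z5T)
    have hl : ((List.range 5).flatMap fun i => (List.range 5).flatMap fun j =>
        (List.range 5).map fun k => ((i, j, k) : ℕ × ℕ × ℕ)).map F = tab125 := by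
      simp only [tab125, List.map_flatMap, List.map_map, F]
      rfl
    have e2 := List.inj_on_of_nodup_map (hl ▸ hnd)
      (show ((s.1 : ℕ), (s.2.1 : ℕ), (s.2.2 : ℕ)) ∈ _ by simp)
      (show ((t.1 : ℕ), (t.2.1 : ℕ), (t.2.2 : ℕ)) ∈ _ by simp) e
    simp only [Prod.mk.injEq] at e2
    exact Prod.ext (Fin.ext e2.1) (Prod.ext (Fin.ext e2.2.1) (Fin.ext e2.2.2))
  · rw [card_hsE]; norm_num

theorem exists_surjective_two {Γ : Type} [Group Γ] [Finite Γ] (σ : Γ →* ↥hsE)
    (hσ : IsStemExtension σ) :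
    ∃ f : Multiplicative (ZMod 2) →* σ.ker, Function.Surjective f := by
  refine Cfsg.Agent.H50.exists_surjective_of_parts (n₂ := 2) (n₃ := 1) hσ (by norm_num) ?_ ?_ ?_
  · refine upperHS.exists_gen_two (hsModel checkEdges_ok checkPairs_ok) σ upperHS_Tables ?_
      upperHS_Ord upperHS_Forms (r := 86625) (by decide) (by rw [card_hsE]; rfl) hσ
    intro m hm
    rcases Nat.lt_or_ge m 256 with h | h
    · exact ⟨0, 256, upperHS_ClosedA, Nat.zero_le _, by omega⟩
    · exact ⟨256, 256, upperHS_ClosedB, h, hm⟩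
  · refine ⟨1, one_mem _, one_pow _, fun z hz k => ?_⟩
    induction k generalizing z with
    | zero => intro h; rw [pow_zero, pow_one] at h; rw [h]; exact one_mem _
    | succ k ih =>
      intro h
      rw [pow_succ', pow_mul] at h
      have h1 := ih (z ^ 3) (pow_mem hz 3) h
      rw [Subgroup.zpowers_one_eq_bot, Subgroup.mem_bot] at h1
      rw [odd_three hσ z hz h1]
      exact one_mem _
  · intro p hp h2 h3 z hz hzp
    by_cases h5 : p = 5
    · exact odd_five hσ z hz (h5 ▸ hzp)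
    refine Cfsg.Agent.H50.eq_one_of_sq_not_dvd hσ hp ?_ z hz hzp
    rw [card_hsE, show (44352000 : ℕ) = 2 ^ 9 * 3 ^ 2 * 5 ^ 3 * 77 by norm_num]
    intro hd
    have hc : ∀ {q : ℕ}, q.Prime → p ≠ q → ∀ n, (p ^ 2).Coprime (q ^ n) := fun hq hne n =>
      Nat.coprime_pow_primes 2 n hp hq hne
    have h77 : p ^ 2 ∣ 77 :=
      (Nat.Coprime.mul_right (Nat.Coprime.mul_right (hc Nat.prime_two h2 9) (hc Nat.prime_three h3 2))
        (hc Nat.prime_five h5 3)).dvd_of_dvd_mul_left hd
    have hle : p ^ 2 ≤ 77 := Nat.le_of_dvd (by norm_num) h77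
    have : p ≤ 8 := by nlinarith [sq p]
    interval_cases p <;> first | (norm_num at h77; done) | norm_num at hp

end Cfsg.Agent.H94.HS
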